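import Mathlib
import Cfsg.Agent.H904.Sol.TI
import Cfsg.Agent.H176.NFBase
import Cfsg.Agent.H212.U3.CaseE2

/-!
# Solvable subgroups of `SU₃(q)` with a large `p`-part

`card_dvd`: a solvable subgroup of `SU₃(q)`, `q` a power of `p`, whose order is divisible by `p ^ 2` (`p` odd), by
`2 ^ 4` (`p = 2`) has order dividing `q ^ 3 (q ^ 2 - 1)`.
-/

set_option autoImplicit false

namespace Cfsg.Agent.H904.SolU3

open Cfsg.Agent.LieRecognition.RankOneAbstract
open Cfsg.Agent.UThreeGen.MatGroup
open Cfsg.Agent.H212.U3.Model Cfsg.Agent.H212.U3.Sub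
open Cfsg.Agent.HKS.EndU (comm_of_a)

section Abstract

variable {G : Type*} [Group G] {B U : Subgroup G} {w : G}

/-- **Large solvable subgroups of strongly split rank one groups.** -/
theorem card_dvd_borel [Finite G] (D : Data B U w) {p n : ℕ} [hp : Fact p.Prime] (hU : IsPGroup p U)
    (hUi : ¬ p ∣ U.index)
    (hbig : ∀ K : Subgroup G, p ^ n ∣ Nat.card ↥(K ⊓ U) → ∃ A : Subgroup G, A ≤ U ∧ A ≤ K ∧ IsMulCommutative A ∧
      ¬ IsCyclic A) {K : Subgroup G} (hK : Group.IsSolvable K) (hn : p ^ n ∣ Nat.card K) :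
    Nat.card K ∣ Nat.card B := by
  classical
  obtain ⟨P⟩ : Nonempty (Sylow p K) := inferInstance
  have hPp : IsPGroup p ↥((P : Subgroup K).map K.subtype) := P.isPGroup'.map _
  obtain ⟨P1, hP1⟩ := hPp.exists_le_sylow
  let SU : Sylow p G := hU.toSylow hUi
  obtain ⟨g, hg⟩ := MulAction.exists_smul_eq G SU P1
  set K' : Subgroup G := K.map (MulAut.conj g⁻¹).toMonoidHom with hK'
  have hKc : Nat.card K' = Nat.card K := Subgroup.card_map_of_injective (MulAut.conj g⁻¹).injective
  have hle : ((P : Subgroup K).map K.subtype).map (MulAut.conj g⁻¹).toMonoidHom ≤ K' ⊓ U := by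
    rintro _ ⟨x, hx, rfl⟩
    refine ⟨?_, ?_⟩
    · obtain ⟨y, -, rfl⟩ := hx
      exact ⟨y, y.2, rfl⟩
    · have h1 : x ∈ (g • SU : Sylow p G) := by rw [hg]; exact hP1 hx
      obtain ⟨y, hy, hxy⟩ := h1
      have hy' : y ∈ U := hy
      have h2 : g * y * g⁻¹ = x := hxy
      change g⁻¹ * x * g⁻¹⁻¹ ∈ U
      have h3 : g⁻¹ * x * g⁻¹⁻¹ = y := by rw [← h2]; group
      rw [h3]
      exact hy'
  have hdvd : p ^ n ∣ Nat.card ↥(K' ⊓ U) := by
    refine dvd_trans ?_ (Subgroup.card_dvd_of_le hle)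
    rw [Subgroup.card_map_of_injective (MulAut.conj g⁻¹).injective,
      Subgroup.card_map_of_injective K.subtype_injective]
    exact P.pow_dvd_card_of_pow_dvd_card hn
  obtain ⟨A, hAU, hAK, hAc, hAn⟩ := hbig K' hdvd
  have hK's : Group.IsSolvable K' := Cfsg.Agent.H176.NF.isSolvable_map _ hK
  have := SolTI.le_of_abelian D hU hUi hK's hAU hAK hAc hAn
  rw [← hKc]
  exact Subgroup.card_dvd_of_le this

end Abstract

section Unip

variable {F : Type*} [Field F] {σ : F →+* F} [hσ : Fact (∀ x, σ (σ x) = x)]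

/-- powers in the unipotent group -/
theorem pow_ab (x : HG σ) (n : ℕ) : (x ^ n).a = n * x.a ∧ 2 * (x ^ n).b = 2 * (n * x.b) + n * (n - 1) * (x.a * σ x.a) := by
  induction n with
  | zero => simp
  | succ n ih =>
    rw [pow_succ, mul_a, mul_b, ih.1]
    constructor
    · push_cast
      ring
    · have h := ih.2
      push_cast
      linear_combination h

/-- the exponent of the unipotent group, odd characteristic -/
theorem pow_p_odd {p : ℕ} [CharP F p] (h2 : (2 : F) ≠ 0) (x : HG σ) : x ^ p = 1 := by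
  have h := pow_ab x p
  have h0 : (p : F) = 0 := CharP.cast_eq_zero F p
  rw [h0] at h
  ext
  · rw [h.1, zero_mul]
    rfl
  · have h3 : 2 * (x ^ p).b = 2 * 0 := by
      rw [h.2]
      ring
    exact mul_left_cancel₀ h2 h3

end Unip

section Exists

/-- A group of exponent `p` (prime) and order divisible by `p ^ 2` has a noncyclic abelian subgroup. -/
theorem exists_noncyclic {G : Type*} [Group G] {p : ℕ} [hp : Fact p.Prime] {P : Subgroup G} [Finite P]
    (hP : ∀ x ∈ P, x ^ p = 1) (h2 : p ^ 2 ∣ Nat.card P) : ∃ A ≤ P, IsMulCommutative A ∧ ¬ IsCyclic A := by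
  classical
  have hPp : IsPGroup p P := fun x => ⟨1, Subtype.ext (by rw [pow_one]; exact hP x x.2)⟩
  have hnt : Nontrivial P := by
    rw [← Finite.one_lt_card_iff_nontrivial]
    exact lt_of_lt_of_le (Nat.one_lt_pow two_ne_zero hp.out.one_lt) (Nat.le_of_dvd Nat.card_pos h2)
  have hZ : Nontrivial (Subgroup.center P) := hPp.center_nontrivial
  obtain ⟨z, hz1⟩ := exists_ne (1 : Subgroup.center P)
  have hz1' : (z : P) ≠ 1 := fun h => hz1 (Subtype.ext h)
  have hzo : orderOf (z : P) = p := orderOf_eq_prime (Subtype.ext (hP z.1 z.1.2)) hz1'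
  obtain ⟨y, hy⟩ : ∃ y : P, y ∉ Subgroup.zpowers (z : P) := by
    by_contra hcon
    push Not at hcon
    have h1 : Subgroup.zpowers (z : P) = ⊤ := (Subgroup.eq_top_iff' _).2 hcon
    have h3 : Nat.card P = p := by
      rw [← Subgroup.card_top (G := P), ← h1, Nat.card_zpowers, hzo]
    rw [h3, sq] at h2
    have h4 : p * p ∣ p * 1 := by rwa [mul_one]
    have h5 := Nat.dvd_of_mul_dvd_mul_left hp.out.pos h4
    exact hp.out.one_lt.ne' (Nat.dvd_one.1 h5)
  have hzy : Commute (z : P) y := (Subgroup.mem_center_iff.1 z.2 y).symm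
  set A : Subgroup P := Subgroup.closure {(z : P), y} with hA
  have hAc : IsMulCommutative A := by
    refine ⟨⟨?_⟩⟩
    intro a b
    apply Subtype.ext
    exact Subgroup.closure_induction₂ (p := fun x y _ _ => x * y = y * x) (by
      intro a b ha hb
      simp only [Set.mem_insert_iff, Set.mem_singleton_iff] at ha hb
      rcases ha with rfl | rfl <;> rcases hb with rfl | rfl
      · rfl
      · exact hzy
      · exact hzy.symm
      · rfl) (by intros; simp) (by intros; simp)
      (by intro x y z _ _ _ h1 h2; rw [mul_assoc, h2, ← mul_assoc, h1, mul_assoc])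
      (by intro x y z _ _ _ h1 h2; rw [← mul_assoc, h1, mul_assoc, h2, mul_assoc])
      (by intro x y _ _ h; exact (Commute.inv_left h : _))
      (by intro x y _ _ h; exact (Commute.inv_right h : _)) a.2 b.2
  have hAn : ¬ IsCyclic A := by
    intro hcyc
    obtain ⟨g, hg⟩ := hcyc.exists_generator
    have hgp : orderOf g ∣ p := orderOf_dvd_of_pow_eq_one (Subtype.ext (Subtype.ext (hP g.1 g.1.2)))
    have hcard : Nat.card A ∣ p := by rwa [← orderOf_eq_card_of_forall_mem_zpowers hg]
    have hzA : Subgroup.zpowers (z : P) ≤ A := by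
      rw [Subgroup.zpowers_le]
      exact Subgroup.subset_closure (by simp)
    have h3 : Nat.card A ≤ Nat.card (Subgroup.zpowers (z : P)) := by
      rw [Nat.card_zpowers, hzo]
      exact Nat.le_of_dvd hp.out.pos hcard
    have h4 : Subgroup.zpowers (z : P) = A := Subgroup.eq_of_le_of_card_ge hzA h3
    apply hy
    rw [h4]
    exact Subgroup.subset_closure (by simp)
  refine ⟨A.map P.subtype, ?_, ?_, ?_⟩
  · rintro _ ⟨x, -, rfl⟩
    exact x.2
  · refine ⟨⟨?_⟩⟩
    rintro ⟨_, a, ha, rfl⟩ ⟨_, b, hb, rfl⟩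
    have h1 := hAc.1.1 ⟨a, ha⟩ ⟨b, hb⟩
    have h2 : a * b = b * a := congrArg Subtype.val h1
    apply Subtype.ext
    change P.subtype a * P.subtype b = P.subtype b * P.subtype a
    rw [← map_mul, h2, map_mul]
  · intro h
    exact hAn ((MulEquiv.isCyclic (A.equivMapOfInjective P.subtype P.subtype_injective)).2 h)

end Exists

end Cfsg.Agent.H904.SolU3
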