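import Mathlib
import Cfsg.Agent.H904.Sol.Big
import Cfsg.Agent.H904.Sol.Lin
import Cfsg.Agent.H743.NFLinB
import Cfsg.Agent.H176.NFAbs
import Cfsg.Agent.H901.FacNum
import Cfsg.Agent.H518.DghpPSU
import Cfsg.Agent.S0815
import Cfsg.Agent.S0283
import Cfsg.Agent.S0279
import Cfsg.Agent.H484.CritNum
import Cfsg.Agent.H198.NFCrit

/-!
# S5773, row NF-PSU3: `PSU₃(q)`, `q ≥ 3`, `q ≠ 5`, `q ≠ 8`

`psu3_ne_five` : no almost simple group with socle `PSU₃(q)`, `q ≠ 5`, is a product of two solvable subgroups.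
-/

set_option autoImplicit false

namespace Cfsg.Agent.H904.SolMain

open Cfsg.Agent.H518.Dghp Cfsg.Agent.H518.DghpSep Cfsg.Agent.H518.DghpMat Cfsg.Agent.H518.DghpPrim
open Cfsg.Agent.H176.NF Cfsg.Agent.H904.SolLin Cfsg.Agent.H904.SolU3
open Cfsg.Agent.UThreeGen.MatGroup Cfsg.Agent.H212.U3.Model

variable {F : Type} [Field F] [Fintype F] {q : ℕ}

/-- the linear representation -/
noncomputable def rep (F : Type) [Field F] (q : ℕ) : Cfsg.SU 3 F q →* ((Fin 3 → F) →ₗ[F] (Fin 3 → F)) :=
  matRep (suHom 3 F q)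

omit [Fintype F] in
theorem rep_injective : Function.Injective (rep F q) := matRep_injective (suHom_injective 3 F q)

omit [Fintype F] in
theorem rep_det (g : Cfsg.SU 3 F q) : LinearMap.det (rep F q g) = 1 := by
  change LinearMap.det (Matrix.toLin' ((suHom 3 F q) g)) = 1
  rw [LinearMap.det_toLin']
  exact g.1.2

omit [Fintype F] in
theorem finrank_three : Module.finrank F (Fin 3 → F) = 3 := by simp

omit [Fintype F] in
theorem rep_scalar (g : Cfsg.SU 3 F q) (c : F) (h : rep F q g = c • 1) : c ^ 3 = 1 := by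
  have h1 := rep_det g
  rwa [h, LinearMap.det_smul, finrank_three, map_one, mul_one] at h1

/-- the order of `SU₃(q)` -/
theorem card_SU (hF : Fintype.card F = q ^ 2) : Nat.card (Cfsg.SU 3 F q) = (q ^ 3 + 1) * (q ^ 3 * (q ^ 2 - 1)) := by
  rw [card_SU_succ hF 2]
  rw [Finset.prod_range_succ, Finset.prod_range_one]
  norm_num
  ring

/-- transport of the bound for large solvable subgroups -/
theorem card_dvd_SU {p f : ℕ} (hp : p.Prime) (hf : 1 ≤ f) (hq : q = p ^ f) (hF : Fintype.card F = q ^ 2)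
    {K : Subgroup (Cfsg.SU 3 F q)} (hK : Group.IsSolvable K) (hn : (if p = 2 then 2 ^ 4 else p ^ 2) ∣ Nat.card K) :
    Nat.card K ∣ q ^ 3 * (q ^ 2 - 1) := by
  have := Fact.mk hp
  let σ : F →+* F := (Cfsg.Agent.LieClassical.HermBasic.conj hF : F →+* F)
  have hs : ∀ x, σ x = x ^ q := fun x => rfl
  have hσ : Fact (∀ x, σ (σ x) = x) := ⟨fun x => Cfsg.Agent.LieClassical.HermBasic.pow_q_pow_q hF x⟩
  obtain ⟨e⟩ := exists_equiv (σ := σ) (Cfsg.Agent.LieClassical.HermBasic.two_le hF) hs
    (by rw [Nat.card_eq_fintype_card, hF])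
  have h1 : Nat.card (K.map e.symm.toMonoidHom) = Nat.card K := Subgroup.card_map_of_injective e.symm.injective
  have h2 : Group.IsSolvable (K.map e.symm.toMonoidHom) := isSolvable_map _ hK
  rw [← h1] at hn ⊢
  split_ifs at hn with hp2
  · subst hp2
    exact card_dvd_two (by omega) hq hF hs h2 hn
  · exact card_dvd_odd hp2 (by omega) hq hF hs h2 hn

/-- the primitive prime -/
structure RD (q f r : ℕ) : Prop where
  prime : r.Prime
  ord : orderOf (q : ZMod r) = 6
  big : 6 * f < r

theorem RD.ordsq {q f r : ℕ} (h : RD q f r) : orderOf ((q ^ 2 : ℕ) : ZMod r) = 3 := orderOf_sq h.ord (by norm_num)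

theorem RD.dvd {q f r : ℕ} (h : RD q f r) (hq : 1 ≤ q) : r ∣ q ^ 3 + 1 := dvd_pow_add_one h.prime hq (by norm_num) h.ord

theorem RD.not_dvd {q f r : ℕ} (h : RD q f r) (hq : 1 ≤ q) : ¬ r ∣ q ^ 3 * (q ^ 2 - 1) := by
  rw [h.prime.dvd_mul, not_or]
  exact ⟨fun h1 => not_dvd_of_orderOf h.prime h.ord (by norm_num) (h.prime.dvd_of_dvd_pow h1),
    not_dvd_pow_sub_one hq h.ord (by norm_num)⟩

/-- **one factor has order divisible by the primitive prime** -/
theorem key_one {p f r : ℕ} (hp : p.Prime) (hf : 1 ≤ f) (hq : q = p ^ f) (hF : Fintype.card F = q ^ 2) (h3 : 3 ≤ q)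
    (h5 : q ≠ 5) (h8 : q ≠ 8) (hr : RD q f r) {H K : Subgroup (Cfsg.SU 3 F q)} (hH : Group.IsSolvable H)
    (hK : Group.IsSolvable K) (hrH : r ∣ Nat.card H) :
    ¬ Nat.card (Cfsg.SU 3 F q) ∣ Nat.card H * Nat.card K * (2 * f) := by
  intro hdvd
  have hq1 : 1 ≤ q := by omega
  have hpf := Fact.mk hp
  have hr7 : 7 ≤ r := by have := hr.big; omega
  have hH0 : Nat.card H ≠ 0 := Nat.card_pos.ne'
  have hK0 : Nat.card K ≠ 0 := Nat.card_pos.ne'
  have hf0 : 2 * f ≠ 0 := by omega
  have hrF : ¬ r ∣ Fintype.card F := by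
    rw [hF]
    intro h
    exact not_dvd_of_orderOf hr.prime hr.ord (by norm_num) (hr.prime.dvd_of_dvd_pow h)
  have he : orderOf ((Fintype.card F : ℕ) : ZMod r) = 3 := by rw [hF]; exact hr.ordsq
  -- separation
  have hsep : ∀ l : ℕ, l.Prime → l ≠ 3 → l ∣ q + 1 → ¬ l ∣ Nat.card H := by
    intro l hl hl3 hlq hlH
    have hlF : l ∣ Fintype.card F - 1 := by
      rw [hF]
      have h1 := Nat.sq_sub_sq q 1
      rw [one_pow] at h1
      rw [h1]
      exact Dvd.dvd.mul_right hlq _
    have h2 : Sep (Cfsg.SU 3 F q) r l := sep_scalar (rep F q) rep_injective hr.prime hl hrF hlF he finrank_three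
      (by norm_num) (fun h => hl3 ((Nat.prime_dvd_prime_iff_eq hl Nat.prime_three).1 h)) rep_scalar
    exact h2 H hH hrH hlH
  -- the `p`-part of `H`
  have hHp : (Nat.card H).factorization p ≤ if p = 2 then 0 else 1 := by
    split_ifs with hp2
    · subst hp2
      have h1 : Sep (Cfsg.SU 3 F q) r 2 := sep_char (rep F q) rep_injective hr.prime Nat.prime_two hrF (by
        rw [hF, hq, ← pow_mul]
        exact dvd_pow_self 2 (by omega)) he finrank_three (by norm_num) (by norm_num)
      rw [Nat.le_zero]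
      exact Nat.factorization_eq_zero_of_not_dvd fun h => h1 H hH hrH h
    · by_contra hlt
      have h1 : p ^ 2 ∣ Nat.card H := (hp.pow_dvd_iff_le_factorization hH0).2 (by omega)
      have h2 := card_dvd_SU hp hf hq hF hH (by rw [if_neg hp2]; exact h1)
      exact hr.not_dvd hq1 (hrH.trans h2)
  -- the `p`-part of `K`
  have hSp : f * 3 ≤ (Nat.card (Cfsg.SU 3 F q)).factorization p := by
    refine (hp.pow_dvd_iff_le_factorization Nat.card_pos.ne').1 ?_
    rw [card_SU hF, pow_mul, ← hq]
    exact ⟨(q ^ 3 + 1) * (q ^ 2 - 1), by ring⟩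
  have hsum : (Nat.card (Cfsg.SU 3 F q)).factorization p ≤ (Nat.card H).factorization p +
      (Nat.card K).factorization p + (2 * f).factorization p := by
    have := (Nat.factorization_le_iff_dvd Nat.card_pos.ne' (mul_ne_zero (mul_ne_zero hH0 hK0) hf0)).2 hdvd p
    rwa [Nat.factorization_mul (mul_ne_zero hH0 hK0) hf0, Nat.factorization_mul hH0 hK0, Finsupp.add_apply,
      Finsupp.add_apply] at this
  have hfp : (2 * f).factorization p ≤ (if p = 2 then 1 else 0) + (f - 1) := by
    rw [Cfsg.Agent.H198.NFC.fac_two_mul hp (by omega)]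
    have h1 : f.factorization p < f := Nat.factorization_lt p (by omega)
    omega
  have hKp : Nat.card K ∣ q ^ 3 * (q ^ 2 - 1) := by
    refine card_dvd_SU hp hf hq hF hK ?_
    by_cases hp2 : p = 2
    · rw [if_pos hp2] at hHp hfp ⊢
      have hf2 : 2 ≤ f := by
        by_contra hlt
        have h1 : f = 1 := by omega
        rw [hp2, h1] at hq
        omega
      rw [← hp2]
      exact (hp.pow_dvd_iff_le_factorization hK0).2 (by omega)
    · rw [if_neg hp2] at hHp hfp ⊢
      have h2 : 2 * f ≤ f * 3 - 1 - (f - 1) := by omega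
      exact (hp.pow_dvd_iff_le_factorization hK0).2 (by omega)
  -- `q ^ 3 + 1` divides `2 f |H|`
  have hmain : q ^ 3 + 1 ∣ Nat.card H * (2 * f) := by
    obtain ⟨m, hm⟩ := hKp
    have h0 : 0 < q ^ 3 * (q ^ 2 - 1) := by
      have : 1 < q ^ 2 := Nat.one_lt_pow (by norm_num) (by omega)
      have h1 : 0 < q ^ 3 := pow_pos (by omega) 3
      exact Nat.mul_pos h1 (by omega)
    have h1 : (q ^ 3 + 1) * (q ^ 3 * (q ^ 2 - 1)) ∣ Nat.card H * (2 * f) * (q ^ 3 * (q ^ 2 - 1)) := by
      rw [← card_SU hF]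
      refine hdvd.trans ?_
      rw [hm]
      exact ⟨m, by ring⟩
    exact Nat.dvd_of_mul_dvd_mul_right h0 h1
  have hq31 : q + 1 ∣ q ^ 3 + 1 := by
    have h1 : Odd 3 := by decide
    have := Odd.nat_add_dvd_pow_add_pow q 1 h1
    rwa [one_pow] at this
  by_cases hf1 : f = 1
  · -- `q` prime
    subst hf1
    rw [pow_one] at hq
    subst hq
    by_cases h9 : 9 ∣ q + 1
    · -- the `3`-part
      have h27 : 27 ∣ q ^ 3 + 1 := by
        obtain ⟨k, hk⟩ := h9
        obtain ⟨k', rfl⟩ : ∃ k', k = k' + 1 := ⟨k - 1, by omega⟩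
        have h1 : q = 9 * k' + 8 := by omega
        rw [h1]
        exact ⟨27 * k' ^ 3 + 72 * k' ^ 2 + 64 * k' + 19, by ring⟩
      have h27H : 3 ^ 3 ∣ Nat.card H := by
        have h1 : 27 ∣ Nat.card H * 2 := h27.trans (by simpa using hmain)
        norm_num
        omega
      have hF3 : 3 ∣ Fintype.card F - 1 := by
        rw [hF]
        have h1 := Nat.sq_sub_sq q 1
        rw [one_pow] at h1
        rw [h1]
        exact Dvd.dvd.mul_right ((by norm_num : 3 ∣ 9).trans h9) _
      have hbd : Bd (Cfsg.SU 3 F q) r 3 (1 + (3 : ℕ).factorization 3) := by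
        refine Cfsg.Agent.H743.NFLinB.bdOfUnip Cfsg.Agent.H176.NF.bdAbs _ F (Fin 3) (suHom 3 F q) (suHom_injective 3 F q) r 3 3 1
          hr.prime Nat.prime_three (by omega) hrF he (by rw [Fintype.card_fin]; norm_num) ?_
        intro x hx U hU hxU
        have h1 := card_le_three (rep F q) rep_injective hF3 finrank_three hr.prime hr7 hrF he rep_det hx hU hxU
        by_contra hlt
        have h2 : 3 ^ 2 ∣ Nat.card U := (Nat.prime_three.pow_dvd_iff_le_factorization Nat.card_pos.ne').2 (by omega)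
        have h4 := Nat.le_of_dvd Nat.card_pos h2
        omega
      have h1 := hbd H hH hrH
      have h2 := (Nat.prime_three.pow_dvd_iff_le_factorization hH0).1 h27H
      rw [Nat.prime_three.factorization_self] at h1
      omega
    · by_cases h4 : 4 ∣ q + 1
      · have h1 : 4 ∣ Nat.card H * 2 := (h4.trans hq31).trans (by simpa using hmain)
        have h2 : 2 ∣ Nat.card H := by omega
        exact hsep 2 Nat.prime_two (by norm_num) (by omega) h2
      · -- a prime divisor at least five
        obtain ⟨l, hl, hl5, hlq⟩ : ∃ l : ℕ, l.Prime ∧ 5 ≤ l ∧ l ∣ q + 1 := by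
          by_contra hcon
          push Not at hcon
          have h6 : q + 1 ∣ 6 := by
            rw [← Nat.factorization_prime_le_iff_dvd (by omega) (by norm_num)]
            intro l hl
            have hq0 : q + 1 ≠ 0 := by omega
            rcases Nat.lt_or_ge l 5 with hl5 | hl5
            · have h1 : l = 2 ∨ l = 3 := by
                have := hl.two_le
                have h4' : l ≠ 4 := by
                  rintro rfl
                  exact absurd hl (by norm_num)
                omega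
              rcases h1 with rfl | rfl
              · have h1 : (q + 1).factorization 2 ≤ 1 := by
                  by_contra hlt
                  exact h4 ((Nat.prime_two.pow_dvd_iff_le_factorization (k := 2) hq0).2 (by omega))
                have h2 : 0 < (6 : ℕ).factorization 2 := Nat.prime_two.factorization_pos_of_dvd (by norm_num) (by norm_num)
                omega
              · have h1 : (q + 1).factorization 3 ≤ 1 := by
                  by_contra hlt
                  exact h9 ((Nat.prime_three.pow_dvd_iff_le_factorization (k := 2) hq0).2 (by omega))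
                have h2 : 0 < (6 : ℕ).factorization 3 := Nat.prime_three.factorization_pos_of_dvd (by norm_num) (by norm_num)
                omega
            · rw [Nat.factorization_eq_zero_of_not_dvd (hcon l hl hl5)]
              exact Nat.zero_le _
          have h7 := Nat.le_of_dvd (by norm_num) h6
          have h8 : q = 3 ∨ q = 4 := by omega
          rcases h8 with rfl | rfl
          · exact absurd h6 (by norm_num)
          · exact absurd h6 (by norm_num)
        have h1 : l ∣ Nat.card H * 2 := (hlq.trans hq31).trans (by simpa using hmain)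
        rcases (hl.dvd_mul).1 h1 with h2 | h2
        · exact hsep l hl (by omega) hlq h2
        · have := Nat.le_of_dvd (by norm_num) h2
          omega
  · -- `f ≥ 2`
    obtain ⟨l, hl, hlo⟩ := Lib.Zsigmondy.exists_prime_orderOf (a := p) (n := 2 * f) hp.two_le (by omega)
      (fun h => by omega) (by
        rintro ⟨rfl, h6⟩
        have : f = 3 := by omega
        rw [this] at hq
        norm_num at hq
        exact h8 hq)
    have hlf : 2 * f < l := lt_prime hl hlo (by omega)
    have hlq : l ∣ q + 1 := by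
      rw [hq]
      exact dvd_pow_add_one hl hp.one_lt.le (by omega) hlo
    have h1 : l ∣ Nat.card H * (2 * f) := (hlq.trans hq31).trans hmain
    rcases (hl.dvd_mul).1 h1 with h2 | h2
    · exact hsep l hl (by omega) hlq h2
    · have := Nat.le_of_dvd (by omega) h2
      omega

theorem key {p f : ℕ} (hp : p.Prime) (hf : 1 ≤ f) (hq : q = p ^ f) (hF : Fintype.card F = q ^ 2) (h3 : 3 ≤ q)
    (h5 : q ≠ 5) (h8 : q ≠ 8) {H K : Subgroup (Cfsg.SU 3 F q)} (hH : Group.IsSolvable H)
    (hK : Group.IsSolvable K) : ¬ Nat.card (Cfsg.SU 3 F q) ∣ Nat.card H * Nat.card K * (2 * f) := by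
  intro hdvd
  obtain ⟨r, hr, hro, hrb⟩ := Cfsg.Agent.H901.Fac.exists_ppd (e := 6) hp hf (by norm_num) (by
    rintro ⟨h, -⟩
    rw [← hq] at h
    omega)
  rw [← hq] at hro
  have hr' : RD q f r := ⟨hr, hro, hrb⟩
  have h1 : r ∣ Nat.card H * Nat.card K * (2 * f) := by
    refine dvd_trans ?_ hdvd
    rw [card_SU hF]
    exact Dvd.dvd.mul_right (hr'.dvd (by omega)) _
  rcases (hr.dvd_mul).1 h1 with h2 | h2
  · rcases (hr.dvd_mul).1 h2 with h4 | h4
    · exact key_one hp hf hq hF h3 h5 h8 hr' hH hK h4 hdvd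
    · rw [mul_comm (Nat.card H)] at hdvd
      exact key_one hp hf hq hF h3 h5 h8 hr' hK hH h4 hdvd
  · have := Nat.le_of_dvd (by omega) h2
    omega

/-- the full preimage of a solvable subgroup of a central quotient -/
theorem comap_facts {G : Type*} [Group G] [Finite G] (M : Subgroup (G ⧸ Subgroup.center G)) :
    Nat.card ↥(M.comap (QuotientGroup.mk' (Subgroup.center G))) = Nat.card (Subgroup.center G) * Nat.card M ∧
      (Group.IsSolvable M → Group.IsSolvable ↥(M.comap (QuotientGroup.mk' (Subgroup.center G)))) := by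
  constructor
  · have h2 := Subgroup.card_mul_index (M.comap (QuotientGroup.mk' (Subgroup.center G)))
    have h3 := Subgroup.card_mul_index M
    have h4 := Subgroup.card_mul_index (Subgroup.center G)
    rw [Subgroup.index_comap_of_surjective _ (QuotientGroup.mk'_surjective (Subgroup.center G))] at h2
    have h5 : 0 < M.index := Nat.pos_of_ne_zero Subgroup.index_ne_zero_of_finite
    refine Nat.eq_of_mul_eq_mul_right h5 ?_
    rw [h2, mul_assoc, h3, ← h4]
    rfl
  · intro hM
    have hZ : Group.IsSolvable ↥(Subgroup.center G) :=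
      Group.isSolvable_of_comm fun a b => Subtype.ext ((Subgroup.mem_center_iff.1 b.2) a)
    have hle : Subgroup.center G ≤ M.comap (QuotientGroup.mk' (Subgroup.center G)) := by
      intro z hz
      rw [Subgroup.mem_comap, QuotientGroup.mk'_apply, (QuotientGroup.eq_one_iff z).2 hz]
      exact M.one_mem
    refine Group.isSolvable_of_ker_le_range (Subgroup.inclusion hle)
      ((QuotientGroup.mk' (Subgroup.center G)).subgroupComap M) ?_
    rintro ⟨x, hx⟩ hx1
    have := congrArg Subtype.val (MonoidHom.mem_ker.1 hx1)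
    exact ⟨⟨x, (QuotientGroup.eq_one_iff (x : G)).1 this⟩, rfl⟩

theorem exists_pf (hF : Fintype.card F = q ^ 2) : ∃ p f : ℕ, p.Prime ∧ 1 ≤ f ∧ q = p ^ f := by
  obtain ⟨n, hp, hn⟩ := FiniteField.card F (ringChar F)
  have hd : q ∣ ringChar F ^ (n : ℕ) := by
    rw [← hn, hF]
    exact dvd_pow_self q two_ne_zero
  obtain ⟨f, -, hq⟩ := (Nat.dvd_prime_pow hp).1 hd
  refine ⟨ringChar F, f, hp, ?_, hq⟩
  by_contra hcon
  have h0 : f = 0 := by omega
  rw [h0, pow_zero] at hq
  have h1 := one_lt_of_sq hF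
  omega

/-- **Row NF-PSU3**, `q ≠ 5`. -/
theorem psu3_ne_five (F : Type) [Field F] [Fintype F] (q : ℕ) (hF : Fintype.card F = q ^ 2) (h3 : 3 ≤ q)
    (h5 : q ≠ 5) (h8 : q ≠ 8) : NF (Cfsg.PSU 3 F q) := by
  obtain ⟨p, f, hp, hf, hq⟩ := exists_pf hF
  have := Fact.mk hp
  have hsimple : IsSimpleGroup (Cfsg.PSU 3 F q) := Cfsg.Agent.S0283.result hF 3 le_rfl (fun h => by omega)
  have haut : Nat.card (MulAut (Cfsg.PSU 3 F q)) = Nat.gcd 3 (q + 1) * (2 * f) * Nat.card (Cfsg.PSU 3 F q) :=
    Cfsg.Agent.S0815.result p f hf hq hF 3 le_rfl (fun h => by omega)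
  have hcen : Nat.card (Subgroup.center (Cfsg.SU 3 F q)) = Nat.gcd 3 (q + 1) := Cfsg.Agent.S0279.result hF 3 le_rfl
  have hS : Nat.card (Cfsg.SU 3 F q) = Nat.card (Subgroup.center (Cfsg.SU 3 F q)) * Nat.card (Cfsg.PSU 3 F q) :=
    (Subgroup.card_mul_index (Subgroup.center (Cfsg.SU 3 F q))).symm
  have hbot : Subgroup.center (Cfsg.PSU 3 F q) = ⊥ := by
    rcases (inferInstance : (Subgroup.center (Cfsg.PSU 3 F q)).Normal).eq_bot_or_eq_top with h1 | h1
    · exact h1
    · exfalso
      have h2 : ∀ a b : Cfsg.PSU 3 F q, a * b = b * a := fun a b => by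
        have h3 : a ∈ Subgroup.center (Cfsg.PSU 3 F q) := h1 ▸ Subgroup.mem_top a
        exact (Subgroup.mem_center_iff.1 h3 b).symm
      have h4 : Group.IsSolvable (⊤ : Subgroup (Cfsg.PSU 3 F q)) :=
        Group.isSolvable_of_comm fun a b => Subtype.ext (h2 a b)
      have h6 := (comap_facts (G := Cfsg.SU 3 F q) ⊤).2 h4
      rw [Subgroup.comap_top] at h6
      refine key hp hf hq hF h3 h5 h8 h6 h6 ?_
      rw [Subgroup.card_top, mul_assoc]
      exact dvd_mul_right _ _
  have hinj := Cfsg.Agent.H198.NFC.conj_injective hbot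
  refine NF0.nf hinj fun A B hA hB hd => ?_
  rw [Cfsg.Agent.H484.SylNorm.index_of_card hbot haut] at hd
  obtain ⟨hA1, hA2⟩ := comap_facts (G := Cfsg.SU 3 F q) A
  obtain ⟨hB1, hB2⟩ := comap_facts (G := Cfsg.SU 3 F q) B
  refine key hp hf hq hF h3 h5 h8 (hA2 hA) (hB2 hB) ?_
  rw [hA1, hB1, hS, hcen]
  obtain ⟨c, hc⟩ := hd
  refine ⟨c, ?_⟩
  calc Nat.gcd 3 (q + 1) * Nat.card A * (Nat.gcd 3 (q + 1) * Nat.card B) * (2 * f)
      = Nat.gcd 3 (q + 1) * (Nat.card A * Nat.card B * (Nat.gcd 3 (q + 1) * (2 * f))) := by ring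
    _ = _ := by rw [hc]; ring

end Cfsg.Agent.H904.SolMain
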